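import Groth.Agent.LT31.Lemma

/-! Composition of solutions of the Lubin-Tate functional equation. -/

namespace Groth.Agent.LT31

open Finset

universe u

variable {O : Type u} [CommRing O] [IsDomain O] [IsDiscreteValuationRing O]
  [Finite (IsLocalRing.ResidueField O)] {σ τ : Type*} [Fintype σ] [Fintype τ]

/-- `φ` has zero constant term and commutes with `π T + T ^ q`. -/
def IsEndo (π : O) (φ : MvPowerSeries σ O) : Prop :=
  φ.constantCoeff = 0 ∧
    PowerSeries.subst φ (ltf π) = MvPowerSeries.subst (ltVars σ π) φ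

theorem isEndo_X (π : O) (i : σ) : IsEndo π (MvPowerSeries.X i : MvPowerSeries σ O) := by
  refine ⟨by simp, ?_⟩
  rw [MvPowerSeries.subst_X (hasSubst_ltVars π)]
  rfl

theorem IsEndo.comp {π : O} {φ : MvPowerSeries σ O} (hφ : IsEndo π φ)
    {b : σ → MvPowerSeries τ O} (hb : ∀ i, IsEndo π (b i)) :
    IsEndo π (MvPowerSeries.subst b φ) := by
  have hb' : MvPowerSeries.HasSubst b :=
    MvPowerSeries.hasSubst_of_constantCoeff_zero fun i => (hb i).1
  refine ⟨MvPowerSeries.constantCoeff_subst_eq_zero hb' (fun i => (hb i).1) hφ.1, ?_⟩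
  have hφ' : MvPowerSeries.HasSubst (fun _ : Unit => φ) :=
    MvPowerSeries.hasSubst_of_constantCoeff_zero fun _ => hφ.1
  calc PowerSeries.subst (MvPowerSeries.subst b φ) (ltf π)
      = MvPowerSeries.subst b (PowerSeries.subst φ (ltf π)) :=
        (MvPowerSeries.subst_comp_subst_apply hφ' hb' _).symm
    _ = MvPowerSeries.subst b (MvPowerSeries.subst (ltVars σ π) φ) := by rw [hφ.2]
    _ = MvPowerSeries.subst (fun i => MvPowerSeries.subst (ltVars τ π) (b i)) φ := by
        rw [MvPowerSeries.subst_comp_subst_apply (hasSubst_ltVars π) hb']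
        congr 1
        funext i
        rw [← (hb i).2]
        have hX : MvPowerSeries.HasSubst (fun _ : Unit => (MvPowerSeries.X i : MvPowerSeries σ O)) :=
          MvPowerSeries.hasSubst_of_constantCoeff_zero fun _ => by simp
        exact (MvPowerSeries.subst_comp_subst_apply hX hb' _).trans
          (by simp only [MvPowerSeries.subst_X hb']; rfl)
    _ = MvPowerSeries.subst (ltVars τ π) (MvPowerSeries.subst b φ) :=
        (MvPowerSeries.subst_comp_subst_apply hb' (hasSubst_ltVars π) _).symm

theorem coeff_single_mul_eq_zero {a b : MvPowerSeries τ O} (ha : a.constantCoeff = 0)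
    (hb : b.constantCoeff = 0) (j : τ) : MvPowerSeries.coeff (Finsupp.single j 1) (a * b) = 0 := by
  classical
  rw [MvPowerSeries.coeff_mul]
  refine Finset.sum_eq_zero fun p hp => ?_
  rw [Finset.mem_antidiagonal] at hp
  rcases eq_or_ne p.1 0 with h1 | h1
  · simp [h1, ha]
  rcases eq_or_ne p.2 0 with h2 | h2
  · simp [h2, hb]
  exfalso
  have h3 := congrArg (fun x : τ →₀ ℕ => x j) hp
  have key : ∀ x : τ →₀ ℕ, x ≠ 0 → x ≤ Finsupp.single j 1 → 1 ≤ x j := by
    intro x hx hle
    by_contra hlt
    refine hx (Finsupp.ext fun i => ?_)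
    rcases eq_or_ne i j with rfl | hij
    · simp only [Finsupp.coe_zero, Pi.zero_apply]; omega
    · simpa [Finsupp.single_eq_of_ne hij] using hle i
  have e1 := key p.1 h1 (by rw [← hp]; exact le_self_add)
  have e2 := key p.2 h2 (by rw [← hp]; exact le_add_self)
  simp only [Finsupp.add_apply, Finsupp.single_eq_same] at h3
  omega

/-- Linear coefficients of a composition. -/
theorem coeff_single_subst {φ : MvPowerSeries σ O} (h0 : φ.constantCoeff = 0)
    {b : σ → MvPowerSeries τ O} (hb : ∀ i, (b i).constantCoeff = 0) (j : τ) :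
    MvPowerSeries.coeff (Finsupp.single j 1) (MvPowerSeries.subst b φ) =
      ∑ i, φ.coeff (Finsupp.single i 1) * (b i).coeff (Finsupp.single j 1) := by
  classical
  rw [MvPowerSeries.coeff_subst (MvPowerSeries.hasSubst_of_constantCoeff_zero hb),
    finsum_eq_sum_of_support_subset _
      (s := Finset.univ.image fun i : σ => Finsupp.single i 1)]
  · rw [Finset.sum_image fun a _ c _ h => (Finsupp.single_left_inj one_ne_zero).1 h]
    refine Finset.sum_congr rfl fun i _ => ?_
    rw [Finsupp.prod_single_index (h := fun s e => b s ^ e) (pow_zero _), pow_one, smul_eq_mul]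
  · intro d hd
    simp only [Function.mem_support, smul_eq_mul] at hd
    simp only [Finset.coe_image, Set.mem_image, Finset.coe_univ, Set.mem_univ, true_and]
    rcases eq_or_ne d 0 with rfl | hd0
    · simp [h0] at hd
    obtain ⟨i, hi⟩ := Finsupp.ne_iff.1 hd0
    refine ⟨i, ?_⟩
    by_contra hne
    refine hd ?_
    rw [show d = Finsupp.single i 1 + (d - Finsupp.single i 1) from ?_,
      Finsupp.prod_add_index' (fun _ => pow_zero _) (fun _ _ _ => pow_add _ _ _),
      Finsupp.prod_single_index (h := fun s e => b s ^ e) (pow_zero _), pow_one,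
      coeff_single_mul_eq_zero (hb i) ?_ j, mul_zero]
    · rw [Finsupp.prod_fintype _ _ fun _ => pow_zero _, map_prod]
      obtain ⟨l, hl⟩ := Finsupp.ne_iff.1 (show d - Finsupp.single i 1 ≠ 0 from fun h => hne (by
        ext l
        have := congrArg (fun x : σ →₀ ℕ => x l) h
        simp only [Finsupp.tsub_apply, Finsupp.coe_zero, Pi.zero_apply] at this hi ⊢
        rcases eq_or_ne l i with rfl | hli
        · simp only [Finsupp.single_eq_same] at this ⊢; omega
        · simp only [Finsupp.single_eq_of_ne hli] at this ⊢; omega))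
      exact Finset.prod_eq_zero (Finset.mem_univ l) (by rw [map_pow, hb l, zero_pow (by simpa using hl)])
    · ext l
      simp only [Finsupp.add_apply, Finsupp.tsub_apply, Finsupp.coe_zero, Pi.zero_apply] at hi ⊢
      rcases eq_or_ne l i with rfl | hli
      · simp only [Finsupp.single_eq_same]; omega
      · simp [Finsupp.single_eq_of_ne hli]

end Groth.Agent.LT31
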