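import Mathlib.RingTheory.PowerSeries.Substitution
import Mathlib.RingTheory.MvPowerSeries.Order
import Mathlib.RingTheory.DiscreteValuationRing.Basic
import Mathlib.RingTheory.LocalRing.ResidueField.Basic
import Mathlib.FieldTheory.Finite.Basic
import Mathlib.Algebra.CharP.Frobenius
import Mathlib.Data.Finsupp.Interval
import Mathlib.Data.Finsupp.WellFounded
import Mathlib.Algebra.MvPolynomial.CommRing
import Mathlib.RingTheory.MvPolynomial.Basic

/-! The Lubin-Tate lemma for `f = π T + T ^ q`. -/

namespace Groth.Agent.LT31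

open Finset

universe u

variable {O : Type u} [CommRing O] [IsDomain O] [IsDiscreteValuationRing O]
  [Finite (IsLocalRing.ResidueField O)]

/-- The series `π T + T ^ q`. -/
noncomputable def ltf (π : O) : PowerSeries O :=
  π • PowerSeries.X + PowerSeries.X ^ Nat.card (IsLocalRing.ResidueField O)

theorem two_le_q : 2 ≤ Nat.card (IsLocalRing.ResidueField O) := Finite.one_lt_card

variable {σ : Type*} [Fintype σ]

open scoped Classical

/-- The substitution of `π T + T ^ q` in each variable. -/
noncomputable def ltVars (σ : Type*) (π : O) : σ → MvPowerSeries σ O :=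
  fun i => PowerSeries.subst (MvPowerSeries.X i : MvPowerSeries σ O) (ltf π)

theorem coeff_X_subst {i : σ} (P : PowerSeries O) (m : σ →₀ ℕ) :
    MvPowerSeries.coeff m (PowerSeries.subst (MvPowerSeries.X i : MvPowerSeries σ O) P) =
      if m = Finsupp.single i (m i) then PowerSeries.coeff (m i) P else 0 := by
  classical
  rw [PowerSeries.coeff_subst (PowerSeries.HasSubst.of_constantCoeff_zero (by simp)),
    finsum_eq_single _ (m i)]
  · rw [MvPowerSeries.coeff_X_pow]
    split_ifs <;> simp
  · intro n hn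
    rw [MvPowerSeries.coeff_X_pow, if_neg (fun h => hn (by rw [h]; simp)), smul_zero]

theorem hasSubst_ltVars (π : O) : MvPowerSeries.HasSubst (ltVars σ π) :=
  MvPowerSeries.hasSubst_of_constantCoeff_zero fun i => by
    rw [ltVars, ← MvPowerSeries.coeff_zero_eq_constantCoeff_apply, coeff_X_subst]
    have := two_le_q (O := O)
    simp [ltf, show Nat.card (IsLocalRing.ResidueField O) ≠ 0 by omega]

theorem coeff_prod_ltVars (π : O) (d m : σ →₀ ℕ) :
    MvPowerSeries.coeff m (d.prod fun i e => ltVars σ π i ^ e) =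
      ∏ i, PowerSeries.coeff (m i) (ltf π ^ d i) := by
  classical
  rw [Finsupp.prod_fintype _ _ fun i => pow_zero _]
  have h1 : ∀ i, ltVars σ π i ^ d i =
      PowerSeries.subst (MvPowerSeries.X i : MvPowerSeries σ O) (ltf π ^ d i) := fun i =>
    (PowerSeries.subst_pow (PowerSeries.HasSubst.of_constantCoeff_zero (by simp)) _ _).symm
  rw [MvPowerSeries.coeff_prod, Finset.sum_eq_single (Finsupp.equivFunOnFinite.symm
    fun i => Finsupp.single i (m i))]
  · refine Finset.prod_congr rfl fun i _ => ?_
    rw [h1, coeff_X_subst]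
    simp [Finsupp.equivFunOnFinite]
  · intro l hl hne
    by_contra hprod
    refine hne ?_
    simp only [Finset.prod_eq_zero_iff, Finset.mem_univ, true_and, not_exists] at hprod
    have hs : ∀ i, l i = Finsupp.single i (l i i) := fun i => by
      by_contra h
      exact hprod i (by rw [h1, coeff_X_subst, if_neg h])
    rw [Finset.mem_finsuppAntidiag] at hl
    have hsum : ∀ j, l j j = m j := fun j => by
      have h := congrArg (fun x : σ →₀ ℕ => x j) hl.1
      rw [Finsupp.finsetSum_apply, Finset.sum_eq_single j] at h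
      · exact h
      · intro i _ hij
        rw [hs i, Finsupp.single_eq_of_ne hij.symm]
      · simp
    refine Finsupp.ext fun i => ?_
    rw [hs i, hsum i]
    simp [Finsupp.equivFunOnFinite]
  · intro h
    refine absurd ?_ h
    rw [Finset.mem_finsuppAntidiag]
    refine ⟨?_, Finset.subset_univ _⟩
    ext j
    simp [Finsupp.finsetSum_apply, Finsupp.single_apply, Finsupp.equivFunOnFinite]

theorem ltf_dvd_X (π : O) : PowerSeries.X ∣ ltf π := by
  refine dvd_add (Dvd.intro (PowerSeries.C π) ?_) (dvd_pow_self _ ?_)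
  · rw [PowerSeries.smul_eq_C_mul, mul_comm]
  · have := two_le_q (O := O); omega

theorem coeff_ltf_pow_of_lt (π : O) {n j : ℕ} (h : j < n) :
    PowerSeries.coeff j (ltf π ^ n) = 0 :=
  PowerSeries.X_pow_dvd_iff.1 (pow_dvd_pow_of_dvd (ltf_dvd_X π) n) j h

theorem coeff_ltf_pow_self (π : O) (n : ℕ) : PowerSeries.coeff n (ltf π ^ n) = π ^ n := by
  have hq := two_le_q (O := O)
  have : ltf π = PowerSeries.X *
      (PowerSeries.C π + PowerSeries.X ^ (Nat.card (IsLocalRing.ResidueField O) - 1)) := by
    rw [ltf, mul_add, ← pow_succ', PowerSeries.smul_eq_C_mul, mul_comm,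
      show Nat.card (IsLocalRing.ResidueField O) - 1 + 1 =
        Nat.card (IsLocalRing.ResidueField O) by omega]
  rw [this, mul_pow, PowerSeries.coeff_X_pow_mul', if_pos le_rfl, Nat.sub_self,
    PowerSeries.coeff_zero_eq_constantCoeff_apply, map_pow]
  congr 1
  simp [zero_pow (show Nat.card (IsLocalRing.ResidueField O) - 1 ≠ 0 by omega)]

/-- The truncation of `φ` strictly below `m`. -/
noncomputable def below (φ : (σ →₀ ℕ) → O) (m : σ →₀ ℕ) : MvPolynomial σ O :=
  open scoped Classical in ∑ d ∈ Finset.Iio m, MvPolynomial.monomial d (φ d)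

/-- The right hand side of the recursion at `m`. -/
noncomputable def rhs (π : O) (φ : (σ →₀ ℕ) → O) (m : σ →₀ ℕ) : O :=
  open scoped Classical in
  (∑ d ∈ Finset.Iio m, φ d * ∏ i, PowerSeries.coeff (m i) (ltf π ^ d i)) -
    MvPolynomial.coeff m (below φ m ^ Nat.card (IsLocalRing.ResidueField O))

theorem rhs_congr (π : O) {φ ψ : (σ →₀ ℕ) → O} {m : σ →₀ ℕ} (h : ∀ d, d < m → φ d = ψ d) :
    rhs π φ m = rhs π ψ m := by
  classical
  have : below φ m = below ψ m :=
    Finset.sum_congr rfl fun d hd => by rw [h d (Finset.mem_Iio.1 hd)]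
  rw [rhs, rhs, this]
  congr 1
  exact Finset.sum_congr rfl fun d hd => by rw [h d (Finset.mem_Iio.1 hd)]

theorem dvd_rhs {π : O} (hπ : Irreducible π) (φ : (σ →₀ ℕ) → O) (m : σ →₀ ℕ) :
    π ∣ rhs π φ m := by
  classical
  let k := IsLocalRing.ResidueField O
  have hmem : ∀ x : O, π ∣ x ↔ IsLocalRing.residue O x = 0 := fun x => by
    rw [IsLocalRing.residue_eq_zero_iff, hπ.maximalIdeal_eq, Ideal.mem_span_singleton]
  rw [hmem]
  have := Fintype.ofFinite k
  obtain ⟨p, hp⟩ := CharP.exists k
  obtain ⟨⟨n, hn⟩, hprime, hcard⟩ := FiniteField.card k p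
  have : Fact p.Prime := ⟨hprime⟩
  have : ExpChar (MvPolynomial σ k) p := ExpChar.prime hprime
  have hq : Nat.card k = p ^ n := by rw [Nat.card_eq_fintype_card]; exact hcard
  have hfbar : PowerSeries.map (IsLocalRing.residue O) (ltf π) = PowerSeries.X ^ Nat.card k := by
    rw [ltf, map_add, map_pow, PowerSeries.map_X, PowerSeries.smul_eq_C_mul, map_mul,
      PowerSeries.map_C, (hmem π).1 dvd_rfl, map_zero, zero_mul, zero_add]
  have hcoef : ∀ a b : ℕ, IsLocalRing.residue O (PowerSeries.coeff a (ltf π ^ b)) =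
      if a = Nat.card k * b then 1 else 0 := fun a b => by
    rw [← PowerSeries.coeff_map, map_pow, hfbar, ← pow_mul, PowerSeries.coeff_X_pow]
  have hpow : MvPolynomial.map (IsLocalRing.residue O) (below φ m) ^ Nat.card k =
      ∑ d ∈ Finset.Iio m,
        MvPolynomial.monomial (Nat.card k • d) (IsLocalRing.residue O (φ d)) := by
    rw [below, map_sum, hq, sum_pow_char_pow]
    refine Finset.sum_congr rfl fun d _ => ?_
    rw [MvPolynomial.map_monomial, MvPolynomial.monomial_pow, ← hq, Nat.card_eq_fintype_card,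
      FiniteField.pow_card]
  rw [rhs, map_sub, map_sum, ← MvPolynomial.coeff_map, map_pow, hpow, MvPolynomial.coeff_sum,
    ← Finset.sum_sub_distrib]
  refine Finset.sum_eq_zero fun d _ => ?_
  rw [map_mul, map_prod, MvPolynomial.coeff_monomial]
  simp only [hcoef]
  by_cases h : Nat.card k • d = m
  · rw [if_pos h, Finset.prod_eq_one, mul_one, sub_self]
    intro i _
    rw [if_pos (by rw [← h]; simp)]
  · rw [if_neg h, sub_zero]
    obtain ⟨i, hi⟩ : ∃ i, m i ≠ Nat.card k * d i := by
      by_contra hcon
      push Not at hcon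
      exact h (Finsupp.ext fun i => by simp [hcon i])
    rw [Finset.prod_eq_zero (Finset.mem_univ i) (by rw [if_neg hi]), mul_zero]

theorem degree_pos_of_ne_zero {m : σ →₀ ℕ} (h : m ≠ 0) : 0 < ∑ i, m i := by
  obtain ⟨i, hi⟩ := Finsupp.ne_iff.1 h
  exact lt_of_lt_of_le (Nat.pos_of_ne_zero hi)
    (Finset.single_le_sum (fun j _ => Nat.zero_le (m j)) (Finset.mem_univ i))

/-- The coefficient of the two sides of the functional equation. -/
theorem coeff_subst_iff {π : O} {φ : MvPowerSeries σ O} (h0 : φ.constantCoeff = 0)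
    (m : σ →₀ ℕ) :
    MvPowerSeries.coeff m (PowerSeries.subst φ (ltf π)) =
        MvPowerSeries.coeff m (MvPowerSeries.subst (ltVars σ π) φ) ↔
      (π - π ^ ∑ i, m i) * MvPowerSeries.coeff m φ =
        rhs π (fun d => MvPowerSeries.coeff d φ) m := by
  classical
  have hφ : PowerSeries.HasSubst φ := PowerSeries.HasSubst.of_constantCoeff_zero h0
  have hL : PowerSeries.subst φ (ltf π) =
      π • φ + φ ^ Nat.card (IsLocalRing.ResidueField O) := by
    rw [ltf, PowerSeries.subst_add hφ, PowerSeries.subst_smul hφ, PowerSeries.subst_pow hφ,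
      PowerSeries.subst_X hφ]
  have hR : MvPowerSeries.coeff m (MvPowerSeries.subst (ltVars σ π) φ) =
      π ^ (∑ i, m i) * MvPowerSeries.coeff m φ +
        ∑ d ∈ Finset.Iio m, MvPowerSeries.coeff d φ * ∏ i, PowerSeries.coeff (m i) (ltf π ^ d i) := by
    rw [MvPowerSeries.coeff_subst (hasSubst_ltVars π), finsum_eq_sum_of_support_subset _
      (s := Finset.Iic m)]
    · simp only [coeff_prod_ltVars, smul_eq_mul]
      rw [← Finset.Iio_insert, Finset.sum_insert (by simp),
        Finset.prod_congr rfl (fun i _ => coeff_ltf_pow_self π (m i)), Finset.prod_pow_eq_pow_sum,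
        mul_comm]
    · intro d hd
      simp only [Function.mem_support, coeff_prod_ltVars] at hd
      rw [Finset.coe_Iic, Set.mem_Iic]
      intro i
      by_contra hlt
      push Not at hlt
      exact hd (by rw [Finset.prod_eq_zero (Finset.mem_univ i) (coeff_ltf_pow_of_lt π hlt),
        smul_zero])
  have hP : MvPowerSeries.coeff m (φ ^ Nat.card (IsLocalRing.ResidueField O)) =
      MvPolynomial.coeff m (below (fun d => MvPowerSeries.coeff d φ) m ^
        Nat.card (IsLocalRing.ResidueField O)) := by
    rw [← MvPolynomial.coeff_coe, MvPolynomial.coe_pow, MvPowerSeries.coeff_pow,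
      MvPowerSeries.coeff_pow]
    refine Finset.sum_congr rfl fun l hl => ?_
    rw [Finset.mem_finsuppAntidiag] at hl
    have hle : ∀ i ∈ Finset.range (Nat.card (IsLocalRing.ResidueField O)), l i ≤ m := fun i hi =>
      hl.1 ▸ Finset.single_le_sum (fun j _ => zero_le) hi
    by_cases hall : ∀ i ∈ Finset.range (Nat.card (IsLocalRing.ResidueField O)), l i < m
    · refine Finset.prod_congr rfl fun i hi => ?_
      rw [MvPolynomial.coeff_coe, below, MvPolynomial.coeff_sum,
        Finset.sum_eq_single (l i)]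
      · simp
      · intro d _ hd
        rw [MvPolynomial.coeff_monomial, if_neg hd]
      · intro h
        exact absurd (Finset.mem_Iio.2 (hall i hi)) h
    · push Not at hall
      obtain ⟨i, hi, hnlt⟩ := hall
      have him : l i = m := ((hle i hi).lt_or_eq).resolve_left hnlt
      have hq := two_le_q (O := O)
      obtain ⟨j, hj, hji⟩ : ∃ j ∈ Finset.range (Nat.card (IsLocalRing.ResidueField O)), j ≠ i := by
        refine Finset.exists_mem_ne ?_ i
        simp; omega
      have hj0 : l j = 0 := by
        refine Finsupp.ext fun a => ?_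
        have h1 := congrArg (fun x : σ →₀ ℕ => x a) hl.1
        rw [← Finset.add_sum_erase _ _ hi, Finsupp.add_apply, him, Finsupp.finsetSum_apply] at h1
        have h2 := Finset.single_le_sum (f := fun j => l j a)
          (fun j _ => Nat.zero_le _) (Finset.mem_erase.2 ⟨hji, hj⟩)
        rw [Finsupp.coe_zero, Pi.zero_apply]
        omega
      rw [Finset.prod_eq_zero hj, Finset.prod_eq_zero hj]
      · rw [hj0, MvPolynomial.coeff_coe, below, MvPolynomial.coeff_sum]
        refine Finset.sum_eq_zero fun d _ => ?_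
        rw [MvPolynomial.coeff_monomial]
        split_ifs with hd
        · subst hd
          simpa using h0
        · rfl
      · rw [hj0]
        simpa using h0
  rw [hL, hR, map_add, MvPowerSeries.coeff_smul, hP]
  constructor <;> intro h <;> simp only [rhs] at h ⊢ <;> linear_combination h

theorem exists_solution {π : O} (hπ : Irreducible π) (φ : (σ →₀ ℕ) → O) (m : σ →₀ ℕ) :
    ∃ x, 2 ≤ ∑ i, m i → (π - π ^ ∑ i, m i) * x = rhs π φ m := by
  by_cases h : 2 ≤ ∑ i, m i
  · have hu : IsUnit (1 - π ^ (∑ i, m i - 1)) := by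
      refine IsLocalRing.isUnit_one_sub_self_of_mem_nonunits _ ?_
      rw [mem_nonunits_iff, isUnit_pow_iff (by omega)]
      exact hπ.not_isUnit
    obtain ⟨c, hc⟩ := dvd_rhs hπ φ m
    refine ⟨(hu.unit⁻¹ : Oˣ) * c, fun _ => ?_⟩
    rw [hc, show π - π ^ ∑ i, m i = π * (1 - π ^ (∑ i, m i - 1)) by
      rw [mul_sub, mul_one, ← pow_succ']; congr 2; omega, mul_assoc, ← mul_assoc (1 - _),
      IsUnit.mul_val_inv, one_mul]
  · exact ⟨0, fun h' => absurd h' h⟩

theorem eq_zero_or_single_of_sum_lt {m : σ →₀ ℕ} (h : ∑ i, m i < 2) :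
    m = 0 ∨ ∃ i, m = Finsupp.single i 1 := by
  classical
  by_cases h0 : m = 0
  · exact Or.inl h0
  obtain ⟨i, hi⟩ := Finsupp.ne_iff.1 h0
  refine Or.inr ⟨i, Finsupp.ext fun j => ?_⟩
  rw [← Finset.add_sum_erase _ _ (Finset.mem_univ i)] at h
  simp only [Finsupp.coe_zero, Pi.zero_apply] at hi
  rcases eq_or_ne j i with rfl | hji
  · rw [Finsupp.single_eq_same]; omega
  · have := Finset.single_le_sum (fun j _ => Nat.zero_le (m j))
      (Finset.mem_erase.2 ⟨hji, Finset.mem_univ j⟩)
    rw [Finsupp.single_eq_of_ne hji]; omega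

/-- The Lubin-Tate lemma: existence. -/
theorem exists_endo {π : O} (hπ : Irreducible π) (a : σ → O) :
    ∃ φ : MvPowerSeries σ O, φ.constantCoeff = 0 ∧
      (∀ i, φ.coeff (Finsupp.single i 1) = a i) ∧
      PowerSeries.subst φ (ltf π) = MvPowerSeries.subst (ltVars σ π) φ := by
  classical
  let step : (m : σ →₀ ℕ) → (∀ d, d < m → O) → O := fun m F =>
    if m = 0 then 0 else if h : ∃ i, m = Finsupp.single i 1 then a h.choose else
      (exists_solution hπ (fun d => if hd : d < m then F d hd else 0) m).choose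
  let wf : WellFounded ((· < ·) : (σ →₀ ℕ) → (σ →₀ ℕ) → Prop) := wellFounded_lt
  let φ : (σ →₀ ℕ) → O := wf.fix step
  have hfix : ∀ m, φ m = step m fun d _ => φ d := fun m => wf.fix_eq step m
  let Φ : MvPowerSeries σ O := φ
  have hc : ∀ d, MvPowerSeries.coeff d Φ = φ d := fun d => rfl
  have h0 : Φ.constantCoeff = 0 := by
    rw [← MvPowerSeries.coeff_zero_eq_constantCoeff_apply, hc, hfix]
    simp [step]
  have h1 : ∀ i, Φ.coeff (Finsupp.single i 1) = a i := fun i => by
    rw [hc, hfix]
    have h : ∃ j, (Finsupp.single i 1 : σ →₀ ℕ) = Finsupp.single j 1 := ⟨i, rfl⟩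
    simp only [step, if_neg (show (Finsupp.single i 1 : σ →₀ ℕ) ≠ 0 by simp), dif_pos h]
    congr 1
    exact ((Finsupp.single_left_inj one_ne_zero).1 h.choose_spec).symm
  refine ⟨Φ, h0, h1, MvPowerSeries.ext fun m => (coeff_subst_iff h0 m).2 ?_⟩
  rcases lt_or_ge (∑ i, m i) 2 with hlt | hge
  · rcases eq_zero_or_single_of_sum_lt hlt with rfl | ⟨i, rfl⟩
    · have hz : Finset.Iio (0 : σ →₀ ℕ) = ∅ := by
        ext d; simp
      have hq := two_le_q (O := O)
      simp [rhs, below, hz, h0, zero_pow (show Nat.card (IsLocalRing.ResidueField O) ≠ 0 by omega)]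
    · have hsum : ∑ j, (Finsupp.single i 1 : σ →₀ ℕ) j = 1 := by
        simp [Finsupp.single_apply]
      have hz : Finset.Iio (Finsupp.single i 1 : σ →₀ ℕ) = {0} := by
        ext d
        simp only [Finset.mem_Iio, Finset.mem_singleton]
        constructor
        · intro hd
          ext j
          have h1 := hd.le j
          by_contra hne
          rcases eq_or_ne j i with rfl | hji
          · refine hd.ne (Finsupp.ext fun l => ?_)
            have h2 := hd.le l
            rcases eq_or_ne l j with rfl | hlj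
            · simp only [Finsupp.single_eq_same, Finsupp.coe_zero, Pi.zero_apply] at h1 hne ⊢; omega
            · rw [Finsupp.single_eq_of_ne hlj] at h2 ⊢; omega
          · rw [Finsupp.single_eq_of_ne hji] at h1
            exact hne (by simpa using h1)
        · rintro rfl
          exact lt_of_le_of_ne zero_le (Ne.symm (by simp))
      have hq := two_le_q (O := O)
      simp [rhs, below, hz, hsum, h0, MvPolynomial.coeff_C,
        zero_pow (show Nat.card (IsLocalRing.ResidueField O) ≠ 0 by omega)]
  · have hstep : φ m = (exists_solution hπ (fun d => if d < m then φ d else 0) m).choose := by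
      rw [hfix]
      have hne : m ≠ 0 := by rintro rfl; simp at hge
      have hns : ¬ ∃ i, m = Finsupp.single i 1 := by
        rintro ⟨i, rfl⟩
        simp [Finsupp.single_apply] at hge
      simp only [step, if_neg hne, dif_neg hns, dite_eq_ite]
    have hs := (exists_solution hπ (fun d => if d < m then φ d else 0) m).choose_spec hge
    rw [← hstep] at hs
    rw [hc, hs]
    exact rhs_congr π fun d hd => by rw [if_pos hd]; rfl

/-- The Lubin-Tate lemma: uniqueness. -/
theorem endo_unique {π : O} (hπ : Irreducible π) {φ ψ : MvPowerSeries σ O}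
    (h0 : φ.constantCoeff = 0) (h0' : ψ.constantCoeff = 0)
    (h1 : ∀ i, φ.coeff (Finsupp.single i 1) = ψ.coeff (Finsupp.single i 1))
    (hφ : PowerSeries.subst φ (ltf π) = MvPowerSeries.subst (ltVars σ π) φ)
    (hψ : PowerSeries.subst ψ (ltf π) = MvPowerSeries.subst (ltVars σ π) ψ) : φ = ψ := by
  ext m
  induction m using WellFoundedLT.induction with
  | _ m ih =>
  rcases lt_or_ge (∑ i, m i) 2 with hlt | hge
  · rcases eq_zero_or_single_of_sum_lt hlt with rfl | ⟨i, rfl⟩
    · simp [h0, h0']
    · exact h1 i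
  · have e1 := (coeff_subst_iff h0 m).1 (by rw [hφ])
    have e2 := (coeff_subst_iff h0' m).1 (by rw [hψ])
    rw [rhs_congr π ih, ← e2] at e1
    refine mul_left_cancel₀ (sub_ne_zero.2 fun h => ?_) e1
    have := pow_injective_of_not_isUnit hπ.not_isUnit hπ.ne_zero (show π ^ 1 = π ^ ∑ i, m i by simpa using h)
    omega

end Groth.Agent.LT31
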